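import Mathlib

/-!
A bound for the order of a group given by Bruhat-type relations up to a central involution.
-/

set_option autoImplicit false

namespace Cfsg.Agent.Lib.SzEightMult

variable {X ι : Type*} [Group X]

/-- Equality up to the sign `z`. -/
def Sgn (z x y : X) : Prop := x = y ∨ x = z * y

theorem Sgn.trans {z x y w : X} (hz : z * z = 1) (h : Sgn z x y) (h' : Sgn z y w) : Sgn z x w := by
  rcases h with rfl | rfl <;> rcases h' with rfl | rfl
  · exact Or.inl rfl
  · exact Or.inr rfl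
  · exact Or.inr rfl
  · exact Or.inl (by rw [← mul_assoc, hz, one_mul])

theorem Sgn.mul_right {z x y : X} (h : Sgn z x y) (a : X) : Sgn z (x * a) (y * a) := by
  rcases h with rfl | rfl
  · exact Or.inl rfl
  · exact Or.inr (mul_assoc _ _ _)

theorem Sgn.mul_left {z x y : X} (hc : ∀ g, z * g = g * z) (h : Sgn z x y) (a : X) :
    Sgn z (a * x) (a * y) := by
  rcases h with rfl | rfl
  · exact Or.inl rfl
  · exact Or.inr (by rw [← mul_assoc, ← hc a, mul_assoc])

/-- The two kinds of normal forms. -/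
def nf [Finite ι] (L : ι → X) (T W : X) : (ι × Fin 7) ⊕ (ι × Fin 7 × ι) → X
  | .inl (u, j) => L u * T ^ (j : ℕ)
  | .inr (u, j, v) => L u * T ^ (j : ℕ) * W * L v

theorem card_closure_le [Finite ι] [Finite X] (z : X) (hz : z * z = 1) (hzc : ∀ g, z * g = g * z)
    (L : ι → X) (T W : X) (hT : T ^ 7 = 1) (u0 : ι) (h1 : L u0 = 1)
    (hUU : ∀ u v, ∃ w, Sgn z (L u * L v) (L w))
    (hTU : ∀ u, ∃ u', Sgn z (T * L u) (L u' * T))
    (hWT : W * T = T ^ 6 * W) (hWW : W * W = 1)
    (hWUW : ∀ u, u ≠ u0 → ∃ a, ∃ j : ℕ, ∃ b, Sgn z (W * L u * W) (L a * T ^ j * W * L b)) :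
    Nat.card (Subgroup.closure (Set.range L ∪ {T, W})) ≤
      2 * (Nat.card ι * 7 + Nat.card ι * (7 * Nat.card ι)) := by
  classical
  set N := nf L T W with hN
  let S : Set X := {x | ∃ n, Sgn z x (N n)}
  have hmod : ∀ n : ℕ, T ^ n = T ^ ((⟨n % 7, Nat.mod_lt _ (by omega)⟩ : Fin 7) : ℕ) := by
    intro n
    show T ^ n = T ^ (n % 7)
    conv_lhs => rw [← Nat.mod_add_div n 7, pow_add, pow_mul, hT, one_pow, mul_one]
  have mk1 : ∀ (u : ι) (n : ℕ) (x : X), Sgn z x (L u * T ^ n) → x ∈ S := fun u n x h =>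
    ⟨.inl (u, ⟨n % 7, Nat.mod_lt _ (by omega)⟩), by rw [hmod n] at h; exact h⟩
  have mk2 : ∀ (u : ι) (n : ℕ) (v : ι) (x : X), Sgn z x (L u * T ^ n * W * L v) → x ∈ S :=
    fun u n v x h => ⟨.inr (u, ⟨n % 7, Nat.mod_lt _ (by omega)⟩, v), by rw [hmod n] at h; exact h⟩
  have hTn : ∀ (n : ℕ) (u : ι), ∃ u', Sgn z (T ^ n * L u) (L u' * T ^ n) := by
    intro n
    induction n with
    | zero => intro u; exact ⟨u, Or.inl (by simp)⟩
    | succ n ih =>
      intro u
      obtain ⟨u1, h1'⟩ := ih u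
      obtain ⟨u2, h2'⟩ := hTU u1
      refine ⟨u2, ?_⟩
      rw [pow_succ', mul_assoc]
      refine (h1'.mul_left hzc T).trans hz ?_
      rw [← mul_assoc, ← mul_assoc (L u2)]
      exact h2'.mul_right _
  have hWn : ∀ n : ℕ, W * T ^ n = T ^ (6 * n) * W := by
    intro n
    induction n with
    | zero => simp
    | succ n ih => rw [pow_succ, ← mul_assoc, ih, mul_assoc, hWT, ← mul_assoc, ← pow_add, Nat.mul_succ]
  have hTW : ∀ n : ℕ, T ^ n * W = W * T ^ (6 * n) := by
    intro n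
    rw [hWn, show 6 * (6 * n) = n + 7 * (5 * n) by ring, pow_add, pow_mul T 7, hT, one_pow, mul_one]
  have hLT : ∀ (n : ℕ) (u : ι), ∃ u', Sgn z (L u * T ^ n) (T ^ n * L u') := by
    intro n u
    obtain ⟨u', h⟩ := hTn (6 * n) u
    refine ⟨u', ?_⟩
    have h' := (h.mul_left hzc (T ^ n)).mul_right (T ^ n)
    have e : T ^ n * T ^ (6 * n) = 1 := by
      rw [← pow_add, show n + 6 * n = 7 * n by ring, pow_mul, hT, one_pow]
    rw [← mul_assoc, e, one_mul, ← mul_assoc, mul_assoc _ (T ^ (6 * n)), ← pow_add,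
      show 6 * n + n = 7 * n by ring, pow_mul T 7, hT, one_pow, mul_one] at h'
    exact h'
  have hS1 : (1 : X) ∈ S := mk1 u0 0 1 (Or.inl (by rw [pow_zero, mul_one, h1]))
  have hSs : ∀ x y, Sgn z x y → y ∈ S → x ∈ S := fun x y h ⟨n, hn⟩ => ⟨n, h.trans hz hn⟩
  have hgen : ∀ g ∈ Set.range L ∪ {T, W}, ∀ s ∈ S, g * s ∈ S := by
    rintro g hg s ⟨n, hn⟩
    refine hSs _ _ (hn.mul_left hzc g) ?_
    rcases hg with ⟨u, rfl⟩ | rfl | rfl
    · rcases n with ⟨v, j⟩ | ⟨v, j, b⟩ <;> obtain ⟨w, hw⟩ := hUU u v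
      · refine mk1 w j _ ?_
        simp only [N, nf, ← mul_assoc]
        exact hw.mul_right _
      · refine mk2 w j b _ ?_
        simp only [N, nf, ← mul_assoc]
        exact ((hw.mul_right _).mul_right _).mul_right _
    · rcases n with ⟨v, j⟩ | ⟨v, j, b⟩ <;> obtain ⟨w, hw⟩ := hTU v
      · refine mk1 w ((j : ℕ) + 1) _ ?_
        simp only [N, nf, ← mul_assoc]
        rw [pow_succ', ← mul_assoc]
        exact hw.mul_right _
      · refine mk2 w ((j : ℕ) + 1) b _ ?_
        simp only [N, nf, ← mul_assoc]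
        rw [pow_succ', ← mul_assoc]
        exact ((hw.mul_right _).mul_right _).mul_right _
    · rcases n with ⟨v, j⟩ | ⟨v, j, b⟩
      · obtain ⟨v', hv'⟩ := hLT (j : ℕ) v
        refine mk2 u0 (6 * (j : ℕ)) v' _ ?_
        simp only [N, nf, h1, one_mul]
        rw [← hWn, mul_assoc]
        exact hv'.mul_left hzc g
      · simp only [N, nf]
        rw [show g * (L v * T ^ (j : ℕ) * g * L b) = g * L v * g * (T ^ (6 * (j : ℕ)) * L b) by
          simp only [mul_assoc]; rw [← mul_assoc (T ^ (j : ℕ)) g, hTW]; simp only [mul_assoc]]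
        obtain ⟨b', hb'⟩ := hTn (6 * (j : ℕ)) b
        by_cases hv : v = u0
        · refine mk1 b' (6 * (j : ℕ)) _ ?_
          rw [hv, h1, mul_one, hWW, one_mul]
          exact hb'
        · obtain ⟨a, i, c, hac⟩ := hWUW v hv
          obtain ⟨c', hc'⟩ := hLT (6 * (j : ℕ)) c
          obtain ⟨w, hw⟩ := hUU c' b
          refine mk2 a (i + 6 * (6 * (j : ℕ))) w _ ((hac.mul_right _).trans hz ?_)
          refine Sgn.trans hz (y := L a * T ^ i * g * (T ^ (6 * (j : ℕ)) * L c') * L b) ?_ ?_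
          · rw [mul_assoc _ (L c), ← mul_assoc (L c), ← mul_assoc _ (L c * T ^ (6 * (j : ℕ)))]
            exact (hc'.mul_left hzc _).mul_right _
          · rw [show L a * T ^ i * g * (T ^ (6 * (j : ℕ)) * L c') * L b =
              L a * T ^ (i + 6 * (6 * (j : ℕ))) * g * (L c' * L b) by
              rw [pow_add]; simp only [mul_assoc]; rw [← mul_assoc g (T ^ _), hWn]; simp only [mul_assoc]]
            exact hw.mul_left hzc _
  have hclo : (Subgroup.closure (Set.range L ∪ {T, W}) : Set X) ⊆ S := by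
    intro x hx
    rw [SetLike.mem_coe, ← Subgroup.mem_toSubmonoid, Subgroup.closure_toSubmonoid_of_finite] at hx
    induction hx using Submonoid.closure_induction_left with
    | one => exact hS1
    | mul_left g hg y _ ih => exact hgen g hg y ih
  have hcard : S ⊆ Set.range (fun q : Bool × ((ι × Fin 7) ⊕ (ι × Fin 7 × ι)) =>
      (if q.1 then z else 1) * N q.2) := by
    rintro x ⟨n, h | h⟩
    · exact ⟨(false, n), by simp [h]⟩
    · exact ⟨(true, n), by simp [h]⟩
  have h := (Nat.card_mono (Set.toFinite _) (hclo.trans hcard)).trans (Finite.card_range_le _)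
  simpa [Nat.card_prod, Nat.card_sum] using h

end Cfsg.Agent.Lib.SzEightMult
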