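import Cfsg.Agent.Lib.Compute.SuzukiMult

/-!
The multiplier of `Sz(8)` has at most four elements: the commutators of the centre of the Sylow
`2`-subgroup with the whole of it are the only obstruction, and they form a quotient of `F₈/F₂`.
-/

set_option autoImplicit false
set_option linter.unusedSectionVars false

namespace Cfsg.Agent.Lib.SzEightMult

open Cfsg Cfsg.Lie Cfsg.Agent.Lib.KnownA Cfsg.Agent.Lib.Compute
open scoped commutatorElement

variable {F : Type*} [Field F] [Fintype F] [CharP F 2] {m : ℕ}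
  (hθ : ∀ x : F, szTh m (szTh m x) = x * x)
include hθ

/-- The elements of the kernel in the derived group of the preimage of the unipotent group. -/
theorem eq_one_of_central_commute (hm : 1 ≤ m) (hF : Fintype.card F = 2 ^ (2 * m + 1))
    (hw : ∃ c d : F, c ≠ 0 ∧ d ≠ 0 ∧ c + d ≠ 0 ∧ (id (c + d))⁻¹ ≠ (id c)⁻¹ + (id d)⁻¹) {Δ : Type*} [Group Δ]
    [Finite Δ] (τ : Δ →* ↥(Suz.G F m)) (hs : Function.Surjective τ)
    (hc : τ.ker ≤ Subgroup.center Δ)
    (hAB : ∀ a a' b : F, ∀ x y : Δ, τ x = Suz.u hθ a a' → τ y = Suz.u hθ 0 b → Commute x y) {z : Δ} (hz : z ∈ τ.ker)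
    (hz' : z ∈ ⁅(Suz.U hθ).comap τ, (Suz.U hθ).comap τ⁆) : z = 1 := by
  classical
  have h2 : (2 : F) = 0 := CharTwo.two_eq_zero
  choose sec hsec using hs
  have hT : ∀ k l : Fˣ, Suz.tor hθ k * Suz.tor hθ l = Suz.tor hθ l * Suz.tor hθ k := fun k l => by
    rw [Suz.tor_mul, Suz.tor_mul, mul_comm]
  obtain ⟨c0, hc00, hc01⟩ : ∃ c : F, c ≠ 0 ∧ c ≠ 1 := by
    obtain ⟨t, h⟩ := Suz.exists_two hθ hm hF
    exact ⟨t, h⟩
  have hwk : ∀ c : F, c ≠ 0 → ∃ k : Fˣ, ∀ a b : F,
      Suz.tor hθ k * Suz.u hθ a b * (Suz.tor hθ k)⁻¹ = Suz.u hθ (c * a) (szTh m c * c * b) := by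
    intro c hc
    obtain ⟨k, hk⟩ := Suz.exists_weight hθ hc
    refine ⟨k, fun a b => ?_⟩
    rw [Suz.conj_u, ← hk]
    have := k.ne_zero
    have := (map_ne_zero (szTh m)).mpr k.ne_zero
    congr 1
    · field_simp
    · rw [map_div₀, map_mul, hθ]
      field_simp
  choose! κ hκ using hwk
  set W : F → Δ := fun c => sec (Suz.tor hθ (κ c)) with hW
  set ν0 := szTh m c0 * c0 with hν0
  have hν01 : ν0 ≠ 1 := fun h => hc01 ((Suz.th_mul_self_bij hθ).1 (by simpa using h))
  -- equivariant lifts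
  obtain ⟨A, hA⟩ : ∃ A : F → Δ, ∀ a, A a = ⁅W c0, sec (Suz.u hθ (a / (c0 - 1)) 0)⁆ :=
    ⟨_, fun _ => rfl⟩
  obtain ⟨B, hB⟩ : ∃ B : F → Δ, ∀ b, B b = ⁅W c0, sec (Suz.u hθ 0 (b / (ν0 - 1)))⁆ :=
    ⟨_, fun _ => rfl⟩
  have hdiag : ∀ (v : F), v + v = 0 := CharTwo.add_self_eq_zero
  have qA : ∀ a, τ (A a) = Suz.u hθ a 0 ∨ ∃ b, τ (A a) = Suz.u hθ a b := by
    intro a
    right
    rw [hA, map_commutatorElement, hW, hsec, hsec, commutatorElement_def, hκ _ hc00, Suz.u_inv,
      Suz.u_mul]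
    refine ⟨szTh m c0 * c0 * 0 + (0 + szTh m (a / (c0 - 1)) * (a / (c0 - 1))) +
      szTh m (c0 * (a / (c0 - 1))) * (a / (c0 - 1)), ?_⟩
    congr 1
    have : c0 - 1 ≠ 0 := sub_ne_zero.2 hc01
    field_simp
    linear_combination a * h2
  replace qA : ∀ a, ∃ b, τ (A a) = Suz.u hθ a b := fun a => (qA a).elim (fun h => ⟨0, h⟩) id
  have qB : ∀ b, τ (B b) = Suz.u hθ 0 b := by
    intro b
    rw [hB, map_commutatorElement, hW, hsec, hsec, commutatorElement_def, hκ _ hc00, Suz.u_inv,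
      Suz.u_mul]
    congr 1
    · simp
    · have : ν0 - 1 ≠ 0 := sub_ne_zero.2 hν01
      simp only [map_zero, mul_zero, zero_mul, add_zero]
      rw [← hν0]
      field_simp
      linear_combination b * h2
  have equiv : ∀ (k : Fˣ) (x y : Δ), τ y = Suz.tor hθ k * τ x * (Suz.tor hθ k)⁻¹ →
      sec (Suz.tor hθ k) * ⁅W c0, x⁆ * (sec (Suz.tor hθ k))⁻¹ = ⁅W c0, y⁆ := by
    intro k x y h
    rw [show ∀ w, w * ⁅W c0, x⁆ * w⁻¹ = ⁅w * W c0 * w⁻¹, w * x * w⁻¹⁆ from fun w => by
      simp only [commutatorElement_def]; group]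
    refine commutator_congr τ hc ?_ ?_
    · rw [hW, map_mul, map_mul, map_inv, hsec, hsec, hT, mul_inv_cancel_right]
    · rw [map_mul, map_mul, map_inv, hsec, h]
  have eA : ∀ c, c ≠ 0 → ∀ a, W c * A a * (W c)⁻¹ = A (c * a) := fun c hc a => by
    rw [hA, hA]
    exact equiv _ _ _ (by rw [hsec, hsec, hκ c hc, mul_zero, mul_div_assoc])
  have eB : ∀ c, c ≠ 0 → ∀ b, W c * B b * (W c)⁻¹ = B (szTh m c * c * b) := fun c hc b => by
    rw [hB, hB]
    exact equiv _ _ _ (by rw [hsec, hsec, hκ c hc, mul_zero, mul_div_assoc])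
  have conjc : ∀ w x y : Δ, w * ⁅x, y⁆ * w⁻¹ = ⁅w * x * w⁻¹, w * y * w⁻¹⁆ := fun w x y => by
    simp only [commutatorElement_def]; group
  have cen : ∀ x, x ∈ τ.ker → ∀ g, Commute g x := fun x hx g =>
    Subgroup.mem_center_iff.1 (hc hx) g
  have uBB : ∀ b b', Suz.u hθ 0 b * Suz.u hθ 0 b' = Suz.u hθ 0 (b + b') := fun b b' => by
    rw [Suz.u_mul]; simp
  -- the lifts of the centre commute
  have cBB : ∀ b b', Commute (B b) (B b') := by
    have hk : ∀ b b', ⁅B b, B b'⁆ ∈ τ.ker := fun b b' => by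
      rw [MonoidHom.mem_ker, map_commutatorElement, qB, qB, commutatorElement_eq_one_iff_mul_comm,
        uBB, uBB, add_comm]
    intro b b'
    refine commutatorElement_eq_one_iff_commute.1
      (eq_one_of_biadd_invariant (fun b b' => ⁅B b, B b'⁆) id ?_ ?_ ?_ (fun c h => h) ?_ b b')
    · intro a a' b
      show ⁅B (a + a'), B b⁆ = _
      rw [commutator_congr τ hc (a' := B a * B a') (b' := B b) (by rw [map_mul, qB, qB, qB, uBB]) rfl]
      exact commutator_mul_left (cen _ (hk _ _) _) (cen _ (hk _ _) _)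
    · intro a b b'
      show ⁅B a, B (b + b')⁆ = _
      rw [commutator_congr τ hc (a' := B a) (b' := B b * B b') rfl (by rw [map_mul, qB, qB, qB, uBB])]
      exact commutator_mul_right (cen _ (hk _ _) _)
    · intro c hc' a b
      obtain ⟨e, rfl⟩ := (Suz.th_mul_self_bij hθ).2 c
      have he : e ≠ 0 := fun h => hc' (by simp [h])
      show ⁅B (szTh m e * e * a), B (szTh m e * e * b)⁆ = _
      rw [← eB e he, ← eB e he, ← conjc, (cen _ (hk _ _) _).eq, mul_inv_cancel_right]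
    · exact hw
  have Badd : ∀ b b', B (b + b') = B b * B b' := by
    intro b b'
    rw [hB, hB, hB, commutator_congr τ hc (a' := W c0)
      (b' := sec (Suz.u hθ 0 (b / (ν0 - 1))) * sec (Suz.u hθ 0 (b' / (ν0 - 1)))) rfl
      (by rw [map_mul, hsec, hsec, hsec, uBB, add_div])]
    refine commutator_mul_right ?_
    rw [← hB]
    obtain ⟨w, hw, e⟩ : ∃ w ∈ τ.ker, sec (Suz.u hθ 0 (b / (ν0 - 1))) = B (b / (ν0 - 1)) * w :=
      ⟨(B (b / (ν0 - 1)))⁻¹ * sec (Suz.u hθ 0 (b / (ν0 - 1))),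
        by rw [MonoidHom.mem_ker, map_mul, map_inv, qB, hsec, inv_mul_cancel], by group⟩
    rw [e]
    exact (cBB _ _).mul_left (cen w hw _).symm
  -- the lifts of the centre commute with the others
  have cAB : ∀ a b, Commute (A a) (B b) := by
    intro a b
    obtain ⟨x, hx⟩ := qA a
    exact hAB a x b _ _ hx (qB b)
  -- decomposition of the preimage
  have hdec : ∀ x ∈ (Suz.U hθ).comap τ, ∃ a b, ∃ w ∈ τ.ker, x = A a * (B b * w) := by
    rintro x ⟨a, b, hx⟩
    obtain ⟨a1, b1⟩ := qA a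
    refine ⟨a, b + a1, (B (b + a1))⁻¹ * (A a)⁻¹ * x, ?_, by group⟩
    rw [MonoidHom.mem_ker, map_mul, map_mul, map_inv, map_inv, b1, qB, hx, ← mul_inv_rev,
      inv_mul_eq_one, Suz.u_mul]
    congr 1
    · simp
    · simp only [mul_zero, add_zero]
      linear_combination a1 * h2
  set V : Subgroup Δ :=
    { carrier := Set.range B
      one_mem' := ⟨0, mul_eq_left.1 (show B 0 * B 0 = B 0 by rw [← Badd, add_zero])⟩
      mul_mem' := by rintro _ _ ⟨a, rfl⟩ ⟨b, rfl⟩; exact ⟨a + b, Badd a b⟩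
      inv_mem' := by
        rintro _ ⟨a, rfl⟩
        refine ⟨a, eq_inv_of_mul_eq_one_left ?_⟩
        rw [← Badd, hdiag]
        exact mul_eq_left.1 (show B 0 * B 0 = B 0 by rw [← Badd, add_zero]) }
  obtain ⟨γ, hγ⟩ : ∃ γ : F → F → F, ∀ a a', γ a a' = szTh m a * a' + szTh m a' * a :=
    ⟨_, fun _ _ => rfl⟩
  have qAA : ∀ a a', τ ⁅A a, A a'⁆ = τ (B (γ a a')) := by
    intro a a'
    obtain ⟨x, hx⟩ := qA a
    obtain ⟨y, hy⟩ := qA a'
    rw [map_commutatorElement, hx, hy, qB, hγ, commutatorElement_def, mul_inv_eq_iff_eq_mul,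
      mul_inv_eq_iff_eq_mul, Suz.u_mul, Suz.u_mul, Suz.u_mul]
    congr 1
    · simp [add_comm]
    · simp only [map_zero, zero_mul, zero_add]
      linear_combination -(szTh m a' * a) * h2
  have cA : ∀ a a', A a * A a' * (A a)⁻¹ * (A a')⁻¹ ∈ V := by
    have hδ : ∀ a a', ⁅A a, A a'⁆ = B (γ a a') := by
      intro a a'
      have hk : ∀ a a', ⁅A a, A a'⁆ * (B (γ a a'))⁻¹ ∈ τ.ker := fun a a' => by
        rw [MonoidHom.mem_ker, map_mul, map_inv, qAA, mul_inv_cancel]
      have hB' : ∀ a a' g, (∀ b, Commute g (B b)) → Commute g ⁅A a, A a'⁆ := fun a a' g hg => by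
        have := (cen _ (hk a a') g).mul_right (hg (γ a a'))
        rwa [inv_mul_cancel_right] at this
      refine mul_inv_eq_one.1
        (eq_one_of_biadd_invariant (fun a a' => ⁅A a, A a'⁆ * (B (γ a a'))⁻¹) id ?_ ?_ ?_
          (fun c h => h) ?_ a a')
      · intro a a' b
        obtain ⟨x, hx⟩ := qA a
        obtain ⟨x', hx'⟩ := qA a'
        obtain ⟨x'', hx''⟩ := qA (a + a')
        obtain ⟨y, hy⟩ : ∃ y, τ (A (a + a')) = τ (A a * A a' * B y) :=
          ⟨x'' + (x + x' + szTh m a * a'), by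
            rw [map_mul, map_mul, hx, hx', hx'', qB, Suz.u_mul, Suz.u_mul]
            congr 1
            · simp
            · simp only [mul_zero]
              linear_combination (-(x + x' + szTh m a * a')) * h2⟩
        have c1 : ⁅B y, A b⁆ = 1 := commutatorElement_eq_one_iff_commute.2 (cAB b y).symm
        show ⁅A (a + a'), A b⁆ * (B (γ (a + a') b))⁻¹ = _
        rw [commutator_congr τ hc (b' := A b) hy rfl,
          commutator_mul_left (a' := B y) (by rw [c1]; exact Commute.one_right _)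
            (by rw [c1]; exact Commute.one_left _), c1, mul_one,
          commutator_mul_left (hB' a' b _ (cAB a))
            (hB' a b _ fun d => ((hB' a' b _ (fun d' => cBB d d')).symm)),
          show γ (a + a') b = γ a' b + γ a b by rw [hγ, hγ, hγ, map_add]; ring, Badd, mul_inv_rev,
          ← mul_assoc, mul_assoc ⁅A a, A b⁆ ⁅A a', A b⁆,
          ((hB' a' b _ (cBB (γ a b))).inv_left).symm.eq]
        simp only [mul_assoc]
      · intro a b b'
        obtain ⟨x, hx⟩ := qA b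
        obtain ⟨x', hx'⟩ := qA b'
        obtain ⟨x'', hx''⟩ := qA (b + b')
        obtain ⟨y, hy⟩ : ∃ y, τ (A (b + b')) = τ (A b * A b' * B y) :=
          ⟨x'' + (x + x' + szTh m b * b'), by
            rw [map_mul, map_mul, hx, hx', hx'', qB, Suz.u_mul, Suz.u_mul]
            congr 1
            · simp
            · simp only [mul_zero]
              linear_combination (-(x + x' + szTh m b * b')) * h2⟩
        have c1 : ⁅A a, B y⁆ = 1 := commutatorElement_eq_one_iff_commute.2 (cAB a y)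
        show ⁅A a, A (b + b')⁆ * (B (γ a (b + b')))⁻¹ = _
        rw [commutator_congr τ hc (a' := A a) rfl hy,
          commutator_mul_right (b' := B y) (by rw [c1]; exact Commute.one_right _), c1, mul_one,
          commutator_mul_right (hB' a b' _ (cAB b)),
          show γ a (b + b') = γ a b' + γ a b by rw [hγ, hγ, hγ, map_add]; ring, Badd, mul_inv_rev,
          ← mul_assoc, mul_assoc ⁅A a, A b⁆ ⁅A a, A b'⁆,
          ((hB' a b' _ (cBB (γ a b))).inv_left).symm.eq]
        simp only [mul_assoc]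
      · intro c hc' a b
        show ⁅A (c * a), A (c * b)⁆ * (B (γ (c * a) (c * b)))⁻¹ = _
        rw [show γ (c * a) (c * b) = szTh m c * c * γ a b by rw [hγ, hγ, map_mul, map_mul]; ring,
          ← eA c hc', ← eA c hc', ← eB c hc', ← conjc]
        calc W c * ⁅A a, A b⁆ * (W c)⁻¹ * (W c * B (γ a b) * (W c)⁻¹)⁻¹
            = W c * (⁅A a, A b⁆ * (B (γ a b))⁻¹) * (W c)⁻¹ := by group
          _ = _ := by rw [(cen _ (hk a b) (W c)).eq, mul_inv_cancel_right]
      · exact hw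
    intro a a'
    exact ⟨γ a a', by rw [← hδ, commutatorElement_def]⟩
  have hle : ⁅(Suz.U hθ).comap τ, (Suz.U hθ).comap τ⁆ ≤ V := by
    rw [Subgroup.commutator_le]
    intro x hx y hy
    obtain ⟨a, b, w, hw, rfl⟩ := hdec x hx
    obtain ⟨a', b', w', hw', rfl⟩ := hdec y hy
    have ccen : ∀ b w, w ∈ τ.ker → (∀ a, Commute (A a) (B b * w)) ∧
        ∀ b', ∀ w', w' ∈ τ.ker → Commute (B b * w) (B b' * w') := fun b w hw =>
      ⟨fun a => (cAB a b).mul_right (cen w hw _),
        fun b' w' hw' => ((cBB b b').mul_right (cen w' hw' _)).mul_left (cen w hw _).symm⟩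
    have c1 : ⁅B b * w, A a' * (B b' * w')⁆ = 1 := commutatorElement_eq_one_iff_commute.2
      (((ccen b w hw).1 a').symm.mul_right ((ccen b w hw).2 b' w' hw'))
    have c2 : ⁅A a, B b' * w'⁆ = 1 :=
      commutatorElement_eq_one_iff_commute.2 ((ccen b' w' hw').1 a)
    rw [commutator_mul_left (by rw [c1]; exact Commute.one_right _)
        (by rw [c1]; exact Commute.one_left _), c1, mul_one,
      commutator_mul_right (by rw [c2]; exact Commute.one_right _), c2, mul_one, commutatorElement_def]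
    exact cA a a'
  obtain ⟨b, rfl⟩ := hle hz'
  rw [MonoidHom.mem_ker, qB, ← Suz.u_zero hθ] at hz
  rw [(Suz.u_injective hθ hz).2]
  exact mul_eq_left.1 (show B 0 * B 0 = B 0 by rw [← Badd, add_zero])

end Cfsg.Agent.Lib.SzEightMult
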