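import Mathlib
import Cfsg.Prelude.Def_KGroupFacts

/-!
Two double covers with independent witnesses give a stem extension by a four group.
-/

set_option autoImplicit false

namespace Cfsg.Agent.Lib.SzEightMult

open scoped commutatorElement

variable {A G : Type} [Group A] [Group G] [Finite A] [Finite G] {ι : Type}

theorem ker_cases {C : Subgroup (A × G)} {z : A × G} (hzne : z ≠ 1) (hz2 : z.2 = 1) (hzC : z ∈ C)
    (hk : Nat.card ((MonoidHom.snd A G).comp C.subtype).ker ≤ 2) (x : ↥C) (hx : (x : A × G).2 = 1) :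
    (x : A × G) = 1 ∨ (x : A × G) = z := by
  set K := ((MonoidHom.snd A G).comp C.subtype).ker
  by_contra hne
  rw [not_or] at hne
  let f : Fin 3 → K := ![1, ⟨⟨z, hzC⟩, hz2⟩, ⟨x, hx⟩]
  have hf : Function.Injective f := by
    have e0 : ((f 0 : ↥C) : A × G) = 1 := rfl
    have e1 : ((f 1 : ↥C) : A × G) = z := rfl
    have e2 : ((f 2 : ↥C) : A × G) = (x : A × G) := rfl
    intro a b hab
    have h : ((f a : ↥C) : A × G) = ((f b : ↥C) : A × G) := by rw [hab]
    fin_cases a <;> fin_cases b <;>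
      first
      | rfl
      | (exfalso
         simp only [Fin.zero_eta, Fin.mk_one, Fin.reduceFinMk] at h
         rw [e0, e1] at h
         exact hzne h.symm)
      | (exfalso
         simp only [Fin.zero_eta, Fin.mk_one, Fin.reduceFinMk] at h
         rw [e1, e0] at h
         exact hzne h)
      | (exfalso
         simp only [Fin.zero_eta, Fin.mk_one, Fin.reduceFinMk] at h
         rw [e0, e2] at h
         exact hne.1 h.symm)
      | (exfalso
         simp only [Fin.zero_eta, Fin.mk_one, Fin.reduceFinMk] at h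
         rw [e2, e0] at h
         exact hne.1 h)
      | (exfalso
         simp only [Fin.zero_eta, Fin.mk_one, Fin.reduceFinMk] at h
         rw [e1, e2] at h
         exact hne.2 h.symm)
      | (exfalso
         simp only [Fin.zero_eta, Fin.mk_one, Fin.reduceFinMk] at h
         rw [e2, e1] at h
         exact hne.2 h)
  have := Nat.card_le_card_of_injective f hf
  rw [Nat.card_fin] at this
  omega

theorem exists_stem_of_covers (C : Fin 2 → Subgroup (A × G)) (z : A × G) (hz : z * z = 1)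
    (hzc : ∀ g, z * g = g * z) (hzne : z ≠ 1) (hz2 : z.2 = 1) (hzC : ∀ r, z ∈ C r)
    (hsurj : ∀ r, Function.Surjective ((MonoidHom.snd A G).comp (C r).subtype))
    (hk : ∀ r, Nat.card ((MonoidHom.snd A G).comp (C r).subtype).ker ≤ 2)
    (L : ∀ r : Fin 2, ι → ↥(C r)) (hL : ∀ r r' i, (L r i : A × G).2 = (L r' i : A × G).2)
    (i j k : ι) (h0j : ⁅(L 0 i : A × G), (L 0 j : A × G)⁆ = z) (h1j : ⁅(L 1 i : A × G), (L 1 j : A × G)⁆ = 1)
    (h0k : ⁅(L 0 i : A × G), (L 0 k : A × G)⁆ = 1) (h1k : ⁅(L 1 i : A × G), (L 1 k : A × G)⁆ = z) :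
    ∃ (Γ : Type) (_ : Group Γ) (_ : Finite Γ) (σ : Γ →* G),
      Cfsg.IsStemExtension σ ∧ Nonempty (σ.ker ≃* Multiplicative (ZMod 2 × ZMod 2)) := by
  let p : ∀ r, ↥(C r) →* G := fun r => (MonoidHom.snd A G).comp (C r).subtype
  let fib : Subgroup (↥(C 0) × ↥(C 1)) :=
    MonoidHom.eqLocus ((p 0).comp (MonoidHom.fst _ _)) ((p 1).comp (MonoidHom.snd _ _))
  let σ : ↥fib →* G := ((p 0).comp (MonoidHom.fst _ _)).comp fib.subtype
  let pairL : ι → ↥fib := fun t => ⟨(L 0 t, L 1 t), hL 0 1 t⟩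
  have ext' : ∀ {y y' : ↥fib}, (y.1.1 : A × G) = y'.1.1 → (y.1.2 : A × G) = y'.1.2 → y = y' :=
    fun h1 h2 => Subtype.ext (Prod.ext (Subtype.ext h1) (Subtype.ext h2))
  have cases' : ∀ y : ↥fib, σ y = 1 →
      ((y.1.1 : A × G) = 1 ∨ (y.1.1 : A × G) = z) ∧ ((y.1.2 : A × G) = 1 ∨ (y.1.2 : A × G) = z) :=
    fun y hy => ⟨ker_cases hzne hz2 (hzC 0) (hk 0) _ hy,
      ker_cases hzne hz2 (hzC 1) (hk 1) _ ((show p 0 y.1.1 = p 1 y.1.2 from y.2).symm.trans hy)⟩
  set a : ↥fib := ⁅pairL i, pairL j⁆ with ha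
  set b : ↥fib := ⁅pairL i, pairL k⁆ with hb
  have ha1 : (a.1.1 : A × G) = z ∧ (a.1.2 : A × G) = 1 := ⟨h0j, h1j⟩
  have hb1 : (b.1.1 : A × G) = 1 ∧ (b.1.2 : A × G) = z := ⟨h0k, h1k⟩
  have haker : σ a = 1 := by show (a.1.1 : A × G).2 = 1; rw [ha1.1, hz2]
  have hbker : σ b = 1 := by show (b.1.1 : A × G).2 = 1; rw [hb1.1]; rfl
  have hcases : ∀ y ∈ σ.ker, y = 1 ∨ y = a ∨ y = b ∨ y = a * b := by
    intro y hy
    rcases cases' y hy with ⟨h1 | h1, h2 | h2⟩
    · exact Or.inl (ext' h1 h2)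
    · exact Or.inr (Or.inr (Or.inl (ext' (h1.trans hb1.1.symm) (h2.trans hb1.2.symm))))
    · exact Or.inr (Or.inl (ext' (h1.trans ha1.1.symm) (h2.trans ha1.2.symm)))
    · refine Or.inr (Or.inr (Or.inr (ext' ?_ ?_)))
      · rw [h1]; show z = (a.1.1 : A × G) * (b.1.1 : A × G); rw [ha1.1, hb1.1, mul_one]
      · rw [h2]; show z = (a.1.2 : A × G) * (b.1.2 : A × G); rw [ha1.2, hb1.2, one_mul]
  refine ⟨↥fib, inferInstance, inferInstance, σ, ⟨?_, ?_, ?_⟩, ?_⟩
  · intro g
    obtain ⟨x, hx⟩ := hsurj 0 g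
    obtain ⟨y, hy⟩ := hsurj 1 g
    exact ⟨⟨(x, y), hx.trans hy.symm⟩, hx⟩
  · intro y hy
    obtain ⟨h1, h2⟩ := cases' y hy
    refine Subgroup.mem_center_iff.mpr fun g => ext' ?_ ?_
    · show (g.1.1 : A × G) * (y.1.1 : A × G) = (y.1.1 : A × G) * (g.1.1 : A × G)
      rcases h1 with h | h <;> rw [h]
      · simp
      · exact (hzc _).symm
    · show (g.1.2 : A × G) * (y.1.2 : A × G) = (y.1.2 : A × G) * (g.1.2 : A × G)
      rcases h2 with h | h <;> rw [h]
      · simp
      · exact (hzc _).symm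
  · intro y hy
    have hm : ∀ p q : ↥fib, ⁅p, q⁆ ∈ commutator ↥fib := fun p q =>
      Subgroup.commutator_mem_commutator (Subgroup.mem_top p) (Subgroup.mem_top q)
    rcases hcases y hy with rfl | rfl | rfl | rfl
    · exact one_mem _
    · exact hm _ _
    · exact hm _ _
    · exact mul_mem (hm _ _) (hm _ _)
  · have hsq : ∀ x : σ.ker, x * x = 1 := by
      rintro ⟨y, hy⟩
      obtain ⟨h1, h2⟩ := cases' y hy
      refine Subtype.ext (ext' ?_ ?_)
      · show (y.1.1 : A × G) * y.1.1 = 1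
        rcases h1 with h | h <;> rw [h]
        · exact mul_one _
        · exact hz
      · show (y.1.2 : A × G) * y.1.2 = 1
        rcases h2 with h | h <;> rw [h]
        · exact mul_one _
        · exact hz
    let S : Fin 4 → σ.ker := ![1, ⟨a, haker⟩, ⟨b, hbker⟩, ⟨a, haker⟩ * ⟨b, hbker⟩]
    have hS : Function.Surjective S := by
      rintro ⟨y, hy⟩
      rcases hcases y hy with rfl | rfl | rfl | rfl
      · exact ⟨0, rfl⟩
      · exact ⟨1, rfl⟩
      · exact ⟨2, rfl⟩
      · exact ⟨3, rfl⟩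
    have hSi : Function.Injective S := by
      intro i' j' hij
      have h1 := congrArg (fun y : σ.ker => ((y : ↥fib).1.1 : A × G)) hij
      have h2 := congrArg (fun y : σ.ker => ((y : ↥fib).1.2 : A × G)) hij
      fin_cases i' <;> fin_cases j' <;> simp [S, ha1, hb1] at h1 h2 <;>
        first
        | rfl
        | exact absurd h1 hzne
        | exact absurd h1.symm hzne
        | exact absurd h2 hzne
        | exact absurd h2.symm hzne
    have hcard : Nat.card σ.ker = 4 := by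
      rw [← Nat.card_congr (Equiv.ofBijective S ⟨hSi, hS⟩), Nat.card_fin]
    haveI : IsKleinFour σ.ker := by
      refine ⟨hcard, ?_⟩
      haveI : Nontrivial σ.ker := Finite.one_lt_card_iff_nontrivial.1 (by rw [hcard]; norm_num)
      refine (Monoid.exponent_eq_prime_iff Nat.prime_two).2 fun x hx => orderOf_eq_prime ?_ hx
      rw [pow_two, hsq]
    exact IsKleinFour.nonempty_mulEquiv

end Cfsg.Agent.Lib.SzEightMult
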