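import Cfsg.Agent.Lib.SzEightMult.Perm

/-!
The Bruhat relations in the two representations.
-/

set_option autoImplicit false

namespace Cfsg.Agent.Lib.SzEightMult

open Matrix

theorem wel_rel : ∀ r : Fin 2, ∀ i : Fin 64, i ≠ 0 →
    welMat r * pMat (permOf r i) * welMat r =
      pMat (permOf r (relOf i).1) * torMat ^ ((relOf i).2.1 : ℕ) * welMat r *
        pMat (permOf r (relOf i).2.2) ∨
    welMat r * pMat (permOf r i) * welMat r =
      -(pMat (permOf r (relOf i).1) * torMat ^ ((relOf i).2.1 : ℕ) * welMat r *
        pMat (permOf r (relOf i).2.2)) := by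
  decide +kernel

end Cfsg.Agent.Lib.SzEightMult
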