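import Cfsg.Agent.Lib.SzEightMult.Perm
import Cfsg.Agent.Lib.KnownA.SuzukiAut

/-!
The same relations in `Sz(8)` itself.
-/

set_option autoImplicit false

namespace Cfsg.Agent.Lib.SzEightMult

open Matrix Cfsg.Lie Cfsg.Agent.Lib.KnownA

/-- A computable unipotent element. -/
def uMat (a b : K8) : Matrix (Fin 4) (Fin 4) K8 :=
  let a4 := (a * a) * (a * a)
  let b4 := (b * b) * (b * b)
  !![1, 0, 0, 0; a, 1, 0, 0; b, a4, 1, 0; b4 + a * a * a4 + a * b, b + a * a4, a, 1]

/-- The computable torus generator. -/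
def hMat : Matrix (Fin 4) (Fin 4) K8 :=
  let k := K8.el 2
  let k4 := (k * k) * (k * k)
  diagonal ![k, k4 * k⁻¹, k * k4⁻¹, 1 * k⁻¹]

/-- The computable involution. -/
def wMat : Matrix (Fin 4) (Fin 4) K8 := !![0, 0, 0, 1; 0, 0, 1, 0; 0, 1, 0, 0; 1, 0, 0, 0]

theorem uMat_mul : ∀ i j : Fin 64,
    uMat (uA i) (uB i) * uMat (uA j) (uB j) = uMat (uA (uMul i j)) (uB (uMul i j)) := by
  decide +kernel

theorem hMat_uMat : ∀ i : Fin 64,
    hMat * uMat (uA i) (uB i) = uMat (uA (uTor i)) (uB (uTor i)) * hMat := by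
  decide +kernel

theorem hMat_pow : hMat ^ 7 = 1 := by decide +kernel

theorem wMat_hMat : wMat * hMat = hMat ^ 6 * wMat := by decide +kernel

theorem wMat_sq : wMat * wMat = 1 := by decide +kernel

theorem uMat_zero : uMat (uA 0) (uB 0) = 1 := by decide +kernel

theorem wMat_rel : ∀ i : Fin 64, i ≠ 0 →
    wMat * uMat (uA i) (uB i) * wMat =
      uMat (uA (relOf i).1) (uB (relOf i).1) * hMat ^ ((relOf i).2.1 : ℕ) * wMat *
        uMat (uA (relOf i).2.2) (uB (relOf i).2.2) := by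
  decide +kernel

theorem u_surj (a b : K8) : ∃ i : Fin 64, uA i = a ∧ uB i = b :=
  (by decide +kernel : ∀ a b : K8, ∃ i : Fin 64, uA i = a ∧ uB i = b) a b

theorem k8_pow : ∀ k : K8, k ≠ 0 → ∃ j : Fin 7, k = K8.el 2 ^ (j : ℕ) := by decide +kernel

theorem th_eq (x : K8) : szTh 1 x = (x * x) * (x * x) := by
  rw [szTh_apply]
  show x ^ 4 = _
  ring

theorem k8_th : ∀ x : K8, szTh 1 (szTh 1 x) = x * x := Suz.th_sq K8.card_eq

theorem u_val (a b : K8) : (Suz.u k8_th a b).1.val = uMat a b := by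
  show szUM 1 a b = _
  simp [szUM, uMat, th_eq]

/-- The torus generator. -/
noncomputable def tor0 : ↥(Suz.G K8 1) :=
  Suz.tor k8_th (Units.mk0 (K8.el 2) (by decide +kernel))

theorem tor0_val : (tor0).1.val = hMat := by
  show szHM 1 (K8.el 2 : K8) = _
  simp [szHM, hMat, th_eq, div_eq_mul_inv]

theorem wel_val : (Suz.wel k8_th).1.val = wMat := rfl

end Cfsg.Agent.Lib.SzEightMult
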