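import Cfsg.Agent.Lib.SzEightMult.Central

/-!
The kernel of a stem extension of `Sz(8)` is an image of `F₈/F₂`.
-/

set_option autoImplicit false
set_option linter.unusedSectionVars false

namespace Cfsg.Agent.Lib.SzEightMult

open Cfsg Cfsg.Lie Cfsg.Agent.Lib.KnownA Cfsg.Agent.Lib.Compute
open scoped commutatorElement

variable {F : Type*} [Field F] [Fintype F] [CharP F 2]
  (hθ : ∀ x : F, szTh 1 (szTh 1 x) = x * x)
include hθ

omit hθ in
theorem pow_seven (hF : Fintype.card F = 2 ^ (2 * 1 + 1)) {c : F} (hc : c ≠ 0) : c ^ 7 = 1 := by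
  have h := FiniteField.pow_card_sub_one_eq_one c hc
  rwa [hF] at h

omit hθ in
theorem sq_add_self_add_one_ne (hF : Fintype.card F = 2 ^ (2 * 1 + 1)) (t : F) (h0 : t ≠ 0)
    (h1 : t ≠ 1) : t ^ 2 + t + 1 ≠ 0 := by
  intro h
  have h3 : t ^ 3 = 1 := by linear_combination (t - 1) * h
  have h7 := pow_seven hF h0
  refine h1 ?_
  calc t = (t ^ 3) ^ 2 * t := by rw [h3, one_pow, one_mul]
    _ = t ^ 7 := by ring
    _ = 1 := h7

theorem exists_id_weight_eight (hF : Fintype.card F = 2 ^ (2 * 1 + 1)) :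
    ∃ c d : F, c ≠ 0 ∧ d ≠ 0 ∧ c + d ≠ 0 ∧ (id (c + d))⁻¹ ≠ (id c)⁻¹ + (id d)⁻¹ := by
  obtain ⟨t, h0, h1⟩ := Suz.exists_two hθ le_rfl hF
  have hne : (1 : F) + t ≠ 0 := fun h => h1 (CharTwo.add_eq_zero.mp h).symm
  refine ⟨1, t, one_ne_zero, h0, hne, fun h => sq_add_self_add_one_ne hF t h0 h1 ?_⟩
  simp only [id, inv_one] at h
  field_simp at h
  linear_combination -h

/-- The map `L` : the kernel is the image of an additive map killing `1`. -/
theorem exists_hom (hF : Fintype.card F = 2 ^ (2 * 1 + 1)) {Δ : Type*} [Group Δ] [Finite Δ]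
    (τ : Δ →* ↥(Suz.G F 1)) (hs : Function.Surjective τ) (hc : τ.ker ≤ Subgroup.center Δ) :
    ∃ L : F → Δ, (∀ y, L y ∈ τ.ker) ∧ (∀ y y', L (y + y') = L y * L y') ∧ L 1 = 1 ∧
      ∀ z ∈ τ.ker, z ∈ ⁅(Suz.U hθ).comap τ, (Suz.U hθ).comap τ⁆ → ∃ y, z = L y := by
  classical
  have h2 : (2 : F) = 0 := CharTwo.two_eq_zero
  choose sec hsec using hs
  have cen : ∀ x, x ∈ τ.ker → ∀ g, Commute g x := fun x hx g =>
    Subgroup.mem_center_iff.1 (hc hx) g
  have th4 : ∀ x : F, szTh 1 x = x ^ 4 := fun x => by rw [szTh_apply]; norm_num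
  have uBB : ∀ b b', Suz.u hθ 0 b * Suz.u hθ 0 b' = Suz.u hθ 0 (b + b') := fun b b' => by
    rw [Suz.u_mul]; simp
  have uAB : ∀ a b, Suz.u hθ a 0 * Suz.u hθ 0 b = Suz.u hθ a b := fun a b => by
    rw [Suz.u_mul]; simp
  have ucomm : ∀ a a' b, Suz.u hθ a a' * Suz.u hθ 0 b = Suz.u hθ 0 b * Suz.u hθ a a' := fun a a' b => by
    rw [Suz.u_mul, Suz.u_mul]; congr 1 <;> simp [add_comm]
  have hwk : ∀ c : F, c ≠ 0 → ∃ k : Fˣ, ∀ a b : F,
      Suz.tor hθ k * Suz.u hθ a b * (Suz.tor hθ k)⁻¹ = Suz.u hθ (c * a) (szTh 1 c * c * b) := by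
    intro c hc
    obtain ⟨k, hk⟩ := Suz.exists_weight hθ hc
    refine ⟨k, fun a b => ?_⟩
    rw [Suz.conj_u, ← hk]
    have := k.ne_zero
    have := (map_ne_zero (szTh 1)).mpr k.ne_zero
    congr 1
    · field_simp
    · rw [map_div₀, map_mul, hθ]
      field_simp
  choose! κ hκ using hwk
  have conjc : ∀ w x y : Δ, w * ⁅x, y⁆ * w⁻¹ = ⁅w * x * w⁻¹, w * y * w⁻¹⁆ := fun w x y => by
    simp only [commutatorElement_def]; group
  -- commutators with lifts of the centre lie in the kernel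
  have hk : ∀ {x y : Δ} {a a' b : F}, τ x = Suz.u hθ a a' → τ y = Suz.u hθ 0 b → ⁅x, y⁆ ∈ τ.ker := by
    intro x y a a' b hx hy
    rw [MonoidHom.mem_ker, map_commutatorElement, hx, hy, commutatorElement_eq_one_iff_mul_comm]
    exact ucomm a a' b
  set z0 : F → Δ := fun b => sec (Suz.u hθ 0 b) with hz0
  set a0 : F → Δ := fun a => sec (Suz.u hθ a 0) with ha0
  have cBB : ∀ b b', ⁅z0 b, z0 b'⁆ = 1 := by
    intro b b'
    refine eq_one_of_biadd_invariant (fun b b' => ⁅z0 b, z0 b'⁆) id ?_ ?_ ?_ (fun c h => h)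
      (exists_id_weight_eight hθ hF) b b'
    · intro a a' b
      show ⁅z0 (a + a'), z0 b⁆ = _
      rw [commutator_congr τ hc (a' := z0 a * z0 a') (b' := z0 b)
        (by rw [map_mul, hz0, hsec, hsec, hsec, uBB]) rfl]
      exact commutator_mul_left (cen _ (hk (hsec _) (hsec _)) _) (cen _ (hk (hsec _) (hsec _)) _)
    · intro a b b'
      show ⁅z0 a, z0 (b + b')⁆ = _
      rw [commutator_congr τ hc (a' := z0 a) (b' := z0 b * z0 b') rfl
        (by rw [map_mul, hz0, hsec, hsec, hsec, uBB])]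
      exact commutator_mul_right (cen _ (hk (hsec _) (hsec _)) _)
    · intro c hc' a b
      obtain ⟨e, rfl⟩ := (Suz.th_mul_self_bij hθ).2 c
      have he : e ≠ 0 := fun h => hc' (by simp [h])
      show ⁅z0 (szTh 1 e * e * a), z0 (szTh 1 e * e * b)⁆ = _
      rw [commutator_congr τ hc (a' := sec (Suz.tor hθ (κ e)) * z0 a * (sec (Suz.tor hθ (κ e)))⁻¹)
        (b' := sec (Suz.tor hθ (κ e)) * z0 b * (sec (Suz.tor hθ (κ e)))⁻¹)
        (by rw [map_mul, map_mul, map_inv, hz0, hsec, hsec, hsec, hκ e he, mul_zero])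
        (by rw [map_mul, map_mul, map_inv, hz0, hsec, hsec, hsec, hκ e he, mul_zero]),
        ← conjc, (cen _ (hk (hsec _) (hsec _)) _).eq, mul_inv_cancel_right]
  obtain ⟨β, hβ⟩ : ∃ β : F → F → Δ, ∀ a b, β a b = ⁅a0 a, z0 b⁆ := ⟨_, fun _ _ => rfl⟩
  have βk : ∀ a b, β a b ∈ τ.ker := fun a b => hβ a b ▸ hk (hsec _) (hsec _)
  have βgen : ∀ {x y : Δ} {a a' b : F}, τ x = Suz.u hθ a a' → τ y = Suz.u hθ 0 b → ⁅x, y⁆ = β a b := by
    intro x y a a' b hx hy
    have h1 : ⁅z0 a', z0 b⁆ = 1 := cBB a' b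
    rw [commutator_congr τ hc (a' := a0 a * z0 a') (b' := z0 b)
      (by rw [map_mul, hx, hz0, ha0, hsec, hsec, uAB]) (by rw [hy, hz0, hsec]),
      commutator_mul_left (by rw [h1]; exact Commute.one_right _)
        (by rw [h1]; exact Commute.one_left _), h1, mul_one, hβ]
  have βr : ∀ a b b', β a (b + b') = β a b * β a b' := by
    intro a b b'
    rw [hβ, hβ, hβ, commutator_congr τ hc (a' := a0 a) (b' := z0 b * z0 b') rfl
      (by rw [map_mul, hz0, hsec, hsec, hsec, uBB])]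
    exact commutator_mul_right (cen _ (hk (hsec _) (hsec _)) _)
  have βl : ∀ a a' b, β (a + a') b = β a b * β a' b := by
    intro a a' b
    rw [← βgen (x := a0 a * a0 a') (y := z0 b) (a' := szTh 1 a * a')
      (by rw [map_mul, ha0, hsec, hsec, Suz.u_mul]; simp) (hsec _), hβ, hβ]
    exact commutator_mul_left (cen _ (hk (hsec _) (hsec _)) _) (cen _ (hk (hsec _) (hsec _)) _)
  have βinv : ∀ c, c ≠ 0 → ∀ a b, β (c * a) (szTh 1 c * c * b) = β a b := by
    intro c hc' a b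
    rw [← βgen (x := sec (Suz.tor hθ (κ c)) * a0 a * (sec (Suz.tor hθ (κ c)))⁻¹)
      (y := sec (Suz.tor hθ (κ c)) * z0 b * (sec (Suz.tor hθ (κ c)))⁻¹) (a' := 0)
      (by rw [map_mul, map_mul, map_inv, ha0, hsec, hsec, hκ c hc', mul_zero])
      (by rw [map_mul, map_mul, map_inv, hz0, hsec, hsec, hκ c hc', mul_zero]),
      ← conjc, ← hβ, (cen _ (βk a b) _).eq, mul_inv_cancel_right]
  obtain ⟨L, hL⟩ : ∃ L : F → Δ, ∀ y, L y = β 1 y := ⟨_, fun _ => rfl⟩
  have Ladd : ∀ y y', L (y + y') = L y * L y' := fun y y' => by rw [hL, hL, hL, βr]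
  have L0 : L 0 = 1 := mul_eq_left.1 (show L 0 * L 0 = L 0 by rw [← Ladd, add_zero])
  have Lsq : ∀ y, L y * L y = 1 := fun y => by rw [← Ladd, CharTwo.add_self_eq_zero, L0]
  have βL : ∀ a b, β a b = L (a ^ 2 * b) := by
    intro a b
    rcases eq_or_ne a 0 with rfl | ha
    · rw [zero_pow two_ne_zero, zero_mul, L0]
      have h := βl 0 0 b
      rw [add_zero] at h
      exact mul_eq_left.1 h.symm
    · have h := βinv a ha 1 (a ^ 2 * b)
      rw [mul_one, th4, show a ^ 4 * a * (a ^ 2 * b) = a ^ 7 * b by ring, pow_seven hF ha, one_mul] at h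
      rw [h, hL]
  have Lk : ∀ y, L y ∈ τ.ker := fun y => hL y ▸ βk 1 y
  -- the commutator of two lifts
  obtain ⟨γ, hγ⟩ : ∃ γ : F → F → F, ∀ a a', γ a a' = szTh 1 a * a' + szTh 1 a' * a :=
    ⟨_, fun _ _ => rfl⟩
  have qAA : ∀ a a', τ ⁅a0 a, a0 a'⁆ = Suz.u hθ 0 (γ a a') := by
    intro a a'
    rw [map_commutatorElement, ha0, hsec, hsec, hγ, commutatorElement_def, mul_inv_eq_iff_eq_mul,
      mul_inv_eq_iff_eq_mul, Suz.u_mul, Suz.u_mul, Suz.u_mul]
    congr 1
    · simp [add_comm]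
    · simp only [map_zero, zero_mul, zero_add]
      linear_combination -(szTh 1 a' * a) * h2
  -- the Jacobi identity kills `L 1`
  have jac : ∀ a b c : F, L (a ^ 2 * γ b c) = L (b ^ 2 * γ a c) * L (c ^ 2 * γ a b) := by
    intro a b c
    set x := a0 a
    set y := a0 b
    set z := a0 c
    set p := ⁅x, y⁆
    set q := ⁅x, z⁆
    set r := ⁅y, z⁆
    have hp : τ p = Suz.u hθ 0 (γ a b) := qAA a b
    have hq : τ q = Suz.u hθ 0 (γ a c) := qAA a c
    have hr : τ r = Suz.u hθ 0 (γ b c) := qAA b c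
    have hbb : ∀ {g h : Δ} {u v : F}, τ g = Suz.u hθ 0 u → τ h = Suz.u hθ 0 v → Commute g h := by
      intro g h u v hg hh
      refine commutatorElement_eq_one_iff_commute.1 ?_
      rw [commutator_congr τ hc (a' := z0 u) (b' := z0 v) (by rw [hg, hz0, hsec]) (by rw [hh, hz0, hsec])]
      exact cBB u v
    have k1 : ⁅x, r⁆ = L (a ^ 2 * γ b c) := by rw [βgen (hsec _) hr, βL]
    have k2 : ⁅y, q⁆ = L (b ^ 2 * γ a c) := by rw [βgen (hsec _) hq, βL]
    have k3 : ⁅z, p⁆ = L (c ^ 2 * γ a b) := by rw [βgen (hsec _) hp, βL]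
    set l2 := L (b ^ 2 * γ a c)
    set l3 := L (c ^ 2 * γ a b)
    have e2 : y * q = l2 * (q * y) := by rw [← k2, commutatorElement_def]; group
    have e3 : z * p⁻¹ = l3 * (p⁻¹ * z) := by
      have h := k3
      rw [commutatorElement_def] at h
      have h' : z * p = l3 * (p * z) := by rw [← h]; group
      have hl : l3⁻¹ = l3 := inv_eq_of_mul_eq_one_right (Lsq _)
      have hc3 : ∀ g, g * l3 = l3 * g := fun g => (cen _ (Lk _) g).eq
      calc z * p⁻¹ = p⁻¹ * (p * z) * p⁻¹ := by group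
        _ = p⁻¹ * (l3⁻¹ * (z * p)) * p⁻¹ := by rw [h']; group
        _ = l3 * (p⁻¹ * z) := by rw [hl, ← mul_assoc, hc3]; group
    have hxr : x * r * x⁻¹ = l2 * l3 * r := by
      rw [show x * r * x⁻¹ = ⁅p * y, q * z⁆ from by
        rw [show r = ⁅y, z⁆ from rfl, conjc]
        congr 1 <;> simp only [p, q, commutatorElement_def] <;> group]
      have hc2 : ∀ g, g * l2 = l2 * g := fun g => (cen _ (Lk _) g).eq
      have hc3 : ∀ g, g * l3 = l3 * g := fun g => (cen _ (Lk _) g).eq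
      calc ⁅p * y, q * z⁆ = p * (y * q) * (z * y⁻¹ * p⁻¹ * z⁻¹) * q⁻¹ := by
            rw [commutatorElement_def]; group
        _ = p * (l2 * (q * y)) * (z * y⁻¹ * p⁻¹ * z⁻¹) * q⁻¹ := by rw [e2]
        _ = l2 * (p * q * (r * (z * p⁻¹)) * z⁻¹ * q⁻¹) := by
            rw [← mul_assoc p l2, hc2]; simp only [r, commutatorElement_def]; group
        _ = l2 * (p * q * (r * (l3 * (p⁻¹ * z))) * z⁻¹ * q⁻¹) := by rw [e3]
        _ = l2 * (l3 * (p * q * r * p⁻¹ * q⁻¹)) := by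
            rw [← mul_assoc r l3, hc3 r, mul_assoc l3 r, ← mul_assoc (p * q) l3, hc3 (p * q)]
            group
        _ = l2 * l3 * r := by
            have hpqr : p * q * r = r * (q * p) := by
              rw [(hbb hp hq).eq, (((hbb hq hr).mul_left (hbb hp hr))).eq]
            rw [hpqr]; group
    rw [← k1, commutatorElement_def, hxr, mul_inv_cancel_right]
  obtain ⟨t, ht0, ht1⟩ := Suz.exists_two hθ le_rfl hF
  have hL1 : L 1 = 1 := by
    have h := jac 1 t (t ^ 2)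
    have e : (1 : F) ^ 2 * γ t (t ^ 2) + (t ^ 2 * γ 1 (t ^ 2) + (t ^ 2) ^ 2 * γ 1 t) = 1 := by
      have h7 := pow_seven hF ht0
      have hs : t ^ 6 + t ^ 5 + t ^ 4 + t ^ 3 + t ^ 2 + t + 1 = 0 := by
        refine (mul_eq_zero.1 (show (t - 1) * (t ^ 6 + t ^ 5 + t ^ 4 + t ^ 3 + t ^ 2 + t + 1) = 0 by
          linear_combination h7)).resolve_left (sub_ne_zero.2 ht1)
      rw [hγ, hγ, hγ, th4, th4, th4]
      linear_combination (t + t ^ 2 + t ^ 3) * h7 + hs - h2
    rw [← e, Ladd, Ladd, h, ← Ladd, Lsq]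
  refine ⟨L, Lk, Ladd, hL1, fun z hz hz' => ?_⟩
  -- modulo the image of `L`
  let R : Subgroup Δ :=
    { carrier := Set.range L
      one_mem' := ⟨0, L0⟩
      mul_mem' := by rintro _ _ ⟨a, rfl⟩ ⟨b, rfl⟩; exact ⟨a + b, Ladd a b⟩
      inv_mem' := by
        rintro _ ⟨a, rfl⟩
        exact ⟨a, (inv_eq_of_mul_eq_one_right (Lsq a)).symm⟩ }
  have hRk : R ≤ τ.ker := by rintro _ ⟨y, rfl⟩; exact Lk y
  haveI : R.Normal := ⟨fun n hn g => by rw [(cen n (hRk hn) g).eq, mul_inv_cancel_right]; exact hn⟩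
  let τ' := QuotientGroup.lift R τ hRk
  have hs' : Function.Surjective τ' := fun g => ⟨QuotientGroup.mk (sec g), hsec g⟩
  have hc' : τ'.ker ≤ Subgroup.center (Δ ⧸ R) := by
    intro q hq
    induction q using QuotientGroup.induction_on with
    | _ x =>
      refine Subgroup.mem_center_iff.mpr fun g => ?_
      induction g using QuotientGroup.induction_on with
      | _ g => rw [← QuotientGroup.mk_mul, ← QuotientGroup.mk_mul, (cen x hq g).eq]
  have hAB : ∀ a a' b : F, ∀ x y : Δ ⧸ R, τ' x = Suz.u hθ a a' → τ' y = Suz.u hθ 0 b → Commute x y := by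
    intro a a' b x y
    induction x using QuotientGroup.induction_on with
    | _ x =>
      induction y using QuotientGroup.induction_on with
      | _ y =>
        intro hx hy
        refine commutatorElement_eq_one_iff_commute.1 ?_
        rw [← QuotientGroup.mk'_apply, ← QuotientGroup.mk'_apply, ← map_commutatorElement,
          QuotientGroup.mk'_apply, QuotientGroup.eq_one_iff]
        exact ⟨_, ((βgen hx hy).trans (βL a b)).symm⟩
  have hz2 : (QuotientGroup.mk z : Δ ⧸ R) = 1 := by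
    refine eq_one_of_central_commute hθ le_rfl hF (exists_id_weight_eight hθ hF) τ' hs' hc' hAB
      (show τ' _ = 1 from hz) ?_
    have h := Subgroup.mem_map_of_mem (QuotientGroup.mk' R) hz'
    rw [Subgroup.map_commutator] at h
    refine Subgroup.commutator_mono ?_ ?_ h <;>
    · rintro _ ⟨x, hx, rfl⟩
      exact hx
  obtain ⟨y, hy⟩ := (QuotientGroup.eq_one_iff z).1 hz2
  exact ⟨y, hy.symm⟩

end Cfsg.Agent.Lib.SzEightMult
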