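import Cfsg.Agent.Lib.SzEightMult.Abstract
import Cfsg.Agent.Lib.SzEightMult.Small
import Cfsg.Agent.Lib.SzEightMult.Rel
import Cfsg.Agent.Lib.SzEightMult.Upper
import Cfsg.Agent.Lib.SzEightMult.Fibre

/-!
A stem extension of `Sz(8)` by a four group, and the multiplier.
-/

set_option autoImplicit false
set_option linter.unusedSectionVars false

namespace Cfsg.Agent.Lib.SzEightMult

open Matrix Cfsg Cfsg.Lie Cfsg.Agent.Lib.KnownA Cfsg.Agent.Lib.Compute
open scoped commutatorElement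

/-- The Suzuki group over the concrete field. -/
abbrev GK := ↥(Suz.G K8 1)

/-- The ambient group. -/
abbrev X := GL (Fin 8) (ZMod 5) × GK

theorem x_ext {x y : X} (h1 : x.1.val = y.1.val) (h2 : x.2.1.val = y.2.1.val) : x = y :=
  Prod.ext (Units.ext h1) (Subtype.ext (Units.ext h2))

/-- The central sign. -/
noncomputable def zX : X := (-1, 1)

theorem zX_sq : zX * zX = 1 := by simp [zX]

theorem zX_comm (g : X) : zX * g = g * zX := by
  refine Prod.ext ?_ ?_ <;> simp [zX]

theorem zX_ne : zX ≠ 1 := by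
  intro h
  have := congrFun (congrFun (congrArg (fun x : X => x.1.val) h) 0) 0
  simp [zX] at this
  revert this
  decide

theorem uMul_inv : ∀ i : Fin 64, ∃ j : Fin 64, uMul i j = 0 ∧ uMul j i = 0 := by decide +kernel

theorem exists_unit_perm (r : Fin 2) (i : Fin 64) :
    ∃ g : GL (Fin 8) (ZMod 5), g.val = pMat (permOf r i) := by
  obtain ⟨j, hj, -⟩ := uMul_inv i
  have h : IsUnit (pMat (permOf r i)) := by
    rcases perm_mul r i j with h | h <;> rw [hj, perm_zero] at h
    · exact IsUnit.of_mul_eq_one _ h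
    · exact IsUnit.of_mul_eq_one (-pMat (permOf r j)) (by rw [Matrix.mul_neg, h, neg_neg])
  exact ⟨h.unit, rfl⟩

/-- The lifts of the Sylow subgroup. -/
noncomputable def LX (r : Fin 2) (i : Fin 64) : X :=
  ((exists_unit_perm r i).choose, Suz.u k8_th (uA i) (uB i))

theorem LX_val (r : Fin 2) (i : Fin 64) : (LX r i).1.val = pMat (permOf r i) :=
  (exists_unit_perm r i).choose_spec

/-- The lift of the torus generator. -/
noncomputable def TX : X :=
  (⟨torMat, torMat ^ 6, by rw [← pow_succ', torMat_pow], by rw [← pow_succ, torMat_pow]⟩, tor0)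

/-- The lift of the involution. -/
noncomputable def WX (r : Fin 2) : X :=
  (⟨welMat r, welMat r, welMat_sq r, welMat_sq r⟩, Suz.wel k8_th)

theorem sgn_of {x y : X} (h1 : x.1.val = y.1.val ∨ x.1.val = -y.1.val) (h2 : x.2.1.val = y.2.1.val) :
    Sgn zX x y := by
  rcases h1 with h | h
  · exact Or.inl (x_ext h h2)
  · exact Or.inr (x_ext (by simp [zX, h]) (by simp [zX, h2]))

/-- The double cover. -/
noncomputable def cov (r : Fin 2) : Subgroup X :=
  Subgroup.closure (Set.range (LX r) ∪ {TX, WX r})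

theorem card_cov_le (r : Fin 2) : Nat.card (cov r) ≤ 58240 := by
  have h := card_closure_le zX zX_sq zX_comm (LX r) TX (WX r) ?_ 0 ?_ ?_ ?_ ?_ ?_ ?_
  · simpa [cov, Nat.card_fin] using h
  · refine x_ext ?_ ?_
    · simp only [Prod.pow_fst, Units.val_pow_eq_pow_val]; exact torMat_pow
    · simp only [Prod.pow_snd, SubmonoidClass.coe_pow, Units.val_pow_eq_pow_val]
      show tor0.1.val ^ 7 = _
      rw [tor0_val, hMat_pow]; rfl
  · refine x_ext ?_ ?_
    · rw [LX_val, perm_zero]; rfl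
    · show (Suz.u k8_th (uA 0) (uB 0)).1.val = _
      rw [u_val, uMat_zero]; rfl
  · intro u v
    refine ⟨uMul u v, sgn_of ?_ ?_⟩
    · simp only [Prod.fst_mul, Units.val_mul, LX_val]; exact perm_mul r u v
    · show (Suz.u k8_th (uA u) (uB u)).1.val * (Suz.u k8_th (uA v) (uB v)).1.val = _
      rw [u_val, u_val, uMat_mul, ← u_val]; rfl
  · intro u
    refine ⟨uTor u, sgn_of ?_ ?_⟩
    · simp only [Prod.fst_mul, Units.val_mul, LX_val]; exact torMat_perm r u
    · show tor0.1.val * (Suz.u k8_th (uA u) (uB u)).1.val = (Suz.u k8_th _ _).1.val * tor0.1.val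
      rw [u_val, u_val, tor0_val, hMat_uMat]
  · refine x_ext ?_ ?_
    · simp only [Prod.fst_mul, Prod.pow_fst, Units.val_mul, Units.val_pow_eq_pow_val]; exact welMat_tor r
    · show (Suz.wel k8_th).1.val * tor0.1.val = _
      simp only [Prod.snd_mul, Prod.pow_snd, Subgroup.coe_mul, SubmonoidClass.coe_pow, Units.val_mul,
        Units.val_pow_eq_pow_val]
      show _ = tor0.1.val ^ 6 * (Suz.wel k8_th).1.val
      rw [tor0_val, wel_val, wMat_hMat]
  · refine x_ext ?_ ?_
    · exact welMat_sq r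
    · exact wMat_sq
  · intro u hu
    refine ⟨(relOf u).1, (relOf u).2.1, (relOf u).2.2, sgn_of ?_ ?_⟩
    · simp only [Prod.fst_mul, Prod.pow_fst, Units.val_mul, Units.val_pow_eq_pow_val, LX_val]
      exact wel_rel r u hu
    · simp only [Prod.snd_mul, Prod.pow_snd, Subgroup.coe_mul, SubmonoidClass.coe_pow, Units.val_mul,
        Units.val_pow_eq_pow_val]
      show (Suz.wel k8_th).1.val * (Suz.u k8_th (uA u) (uB u)).1.val * (Suz.wel k8_th).1.val =
        (Suz.u k8_th _ _).1.val * tor0.1.val ^ _ * (Suz.wel k8_th).1.val * (Suz.u k8_th _ _).1.val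
      rw [u_val, u_val, u_val, tor0_val, wel_val, wMat_rel u hu]

/-- The projection of a double cover. -/
noncomputable def prj (r : Fin 2) : ↥(cov r) →* GK := (MonoidHom.snd _ _).comp (cov r).subtype

theorem prj_surjective (r : Fin 2) : Function.Surjective (prj r) := by
  rw [← MonoidHom.range_eq_top]
  refine Suz.gens_le k8_th _ (fun a b => ?_) (fun k => ?_) ?_
  · obtain ⟨i, rfl, rfl⟩ := u_surj a b
    exact ⟨⟨LX r i, Subgroup.subset_closure (Or.inl ⟨i, rfl⟩)⟩, rfl⟩
  · obtain ⟨j, hj⟩ := k8_pow (k : K8) k.ne_zero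
    refine ⟨⟨TX, Subgroup.subset_closure (Or.inr (Or.inl rfl))⟩ ^ (j : ℕ), ?_⟩
    rw [map_pow]
    show Suz.torHom k8_th _ ^ (j : ℕ) = Suz.torHom k8_th k
    rw [← map_pow]
    exact congrArg _ (Units.ext (by rw [Units.val_pow_eq_pow_val]; exact hj.symm))
  · exact ⟨⟨WX r, Subgroup.subset_closure (Or.inr (Or.inr rfl))⟩, rfl⟩

theorem LX_mem (r : Fin 2) (i : Fin 64) : LX r i ∈ cov r := Subgroup.subset_closure (Or.inl ⟨i, rfl⟩)

theorem witness : ∀ r : Fin 2,
    pMat (permOf r 8) * pMat (permOf r (![4, 2] r)) =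
      -(pMat (permOf r (![4, 2] r)) * pMat (permOf r 8)) ∧
    pMat (permOf r 8) * pMat (permOf r (![2, 4] r)) =
      pMat (permOf r (![2, 4] r)) * pMat (permOf r 8) := by
  decide +kernel

theorem comm_eq {A G : Type*} [Group A] [Group G] {x y c : A × G} (h1 : x.1 * y.1 = c.1 * (y.1 * x.1))
    (h2 : x.2 * y.2 = c.2 * (y.2 * x.2)) : ⁅x, y⁆ = c := by
  rw [commutatorElement_def, mul_inv_eq_iff_eq_mul, mul_inv_eq_iff_eq_mul, mul_assoc]
  exact Prod.ext h1 h2

theorem LX_snd (r : Fin 2) (i : Fin 64) : (LX r i).2 = Suz.u k8_th (uA i) (uB i) := rfl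

theorem snd_comm (i j : Fin 64)
    (h : uMat (uA i) (uB i) * uMat (uA j) (uB j) = uMat (uA j) (uB j) * uMat (uA i) (uB i)) :
    Suz.u k8_th (uA i) (uB i) * Suz.u k8_th (uA j) (uB j) =
      Suz.u k8_th (uA j) (uB j) * Suz.u k8_th (uA i) (uB i) := by
  refine Subtype.ext (Units.ext ?_)
  simp only [Subgroup.coe_mul, Units.val_mul, u_val]
  exact h

theorem LX_comm_sign (r : Fin 2) (i j : Fin 64)
    (h1 : pMat (permOf r i) * pMat (permOf r j) = -(pMat (permOf r j) * pMat (permOf r i)))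
    (h2 : uMat (uA i) (uB i) * uMat (uA j) (uB j) = uMat (uA j) (uB j) * uMat (uA i) (uB i)) :
    ⁅LX r i, LX r j⁆ = zX := by
  refine comm_eq (Units.ext ?_) ?_
  · simp only [zX, Units.val_mul, Units.val_neg, Units.val_one, LX_val, h1, neg_mul, one_mul]
  · simp only [zX, LX_snd, one_mul]; exact snd_comm i j h2

theorem LX_comm_one (r : Fin 2) (i j : Fin 64)
    (h1 : pMat (permOf r i) * pMat (permOf r j) = pMat (permOf r j) * pMat (permOf r i))
    (h2 : uMat (uA i) (uB i) * uMat (uA j) (uB j) = uMat (uA j) (uB j) * uMat (uA i) (uB i)) :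
    ⁅LX r i, LX r j⁆ = 1 := by
  refine comm_eq (Units.ext ?_) ?_
  · simp only [Prod.fst_one, Units.val_mul, Units.val_one, LX_val, h1, one_mul]
  · simp only [Prod.snd_one, LX_snd, one_mul]; exact snd_comm i j h2

theorem small_idx : ∀ r : Fin 2, ∀ j : Fin 64, j = (![4, 2] r) ∨ j = (![2, 4] r) →
    uMat (uA 8) (uB 8) * uMat (uA j) (uB j) = uMat (uA j) (uB j) * uMat (uA 8) (uB 8) := by
  decide +kernel

theorem LX_commutator (r : Fin 2) :
    ⁅LX r 8, LX r (![4, 2] r)⁆ = zX ∧ ⁅LX r 8, LX r (![2, 4] r)⁆ = 1 :=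
  ⟨LX_comm_sign r _ _ (witness r).1 (small_idx r _ (Or.inl rfl)),
    LX_comm_one r _ _ (witness r).2 (small_idx r _ (Or.inr rfl))⟩

theorem zX_mem (r : Fin 2) : zX ∈ cov r := by
  rw [← (LX_commutator r).1]
  exact mul_mem (mul_mem (mul_mem (LX_mem r _) (LX_mem r _)) (inv_mem (LX_mem r _))) (inv_mem (LX_mem r _))

theorem card_prj_ker (r : Fin 2) : Nat.card (prj r).ker ≤ 2 := by
  have h := Subgroup.index_mul_card (prj r).ker
  rw [Subgroup.index_ker, MonoidHom.range_eq_top.mpr (prj_surjective r), Subgroup.card_top,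
    Suz.card_G k8_th, K8.card_eq] at h
  have := card_cov_le r
  generalize Nat.card (prj r).ker = k at h ⊢
  norm_num at h
  omega

/-- The stem extension by the four group. -/
theorem exists_stem : ∃ (Γ : Type) (_ : Group Γ) (_ : Finite Γ) (σ : Γ →* GK),
    Cfsg.IsStemExtension σ ∧ Nonempty (σ.ker ≃* Multiplicative (ZMod 2 × ZMod 2)) :=
  exists_stem_of_covers cov zX zX_sq zX_comm zX_ne rfl zX_mem prj_surjective card_prj_ker
    (fun r i => ⟨LX r i, LX_mem r i⟩) (fun r r' i => by simp only [LX_snd]) 8 4 2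
    (LX_commutator 0).1 (LX_commutator 1).2 (LX_commutator 0).2 (LX_commutator 1).1

end Cfsg.Agent.Lib.SzEightMult
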