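import Mathlib

/-!
A computable field with eight elements.
-/

set_option autoImplicit false

namespace Cfsg.Agent.Lib.SzEightMult

/-- The field with eight elements. -/
structure K8 where
  /-- The coordinates over the prime field. -/
  v : Fin 8
  deriving DecidableEq

namespace K8

/-- The underlying equivalence. -/
def k8Equiv : Fin 8 ≃ K8 := ⟨fun v => ⟨v⟩, fun a => a.v, fun _ => rfl, fun _ => rfl⟩

instance : Fintype K8 := Fintype.ofEquiv _ k8Equiv

/-- The element with the given code. -/
def el (n : ℕ) : K8 := ⟨⟨n % 8, Nat.mod_lt _ (by omega)⟩⟩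

/-- The multiplication table. -/
def mulTab : ℕ := 0x73157889d3f0cfa868356ee0467b98bcbd10fac688000000

/-- Multiplication of codes. -/
def mulC (a b : ℕ) : ℕ := mulTab >>> (3 * (8 * a + b)) % 8

instance : Zero K8 := ⟨el 0⟩
instance : One K8 := ⟨el 1⟩
instance : Add K8 := ⟨fun a b => el (Nat.xor a.v.val b.v.val)⟩
instance : Neg K8 := ⟨fun a => a⟩
instance : Mul K8 := ⟨fun a b => el (mulC a.v.val b.v.val)⟩
instance : Inv K8 := ⟨fun a => (a * a) * ((a * a) * (a * a))⟩

instance : Field K8 where
  add_assoc a b c := by revert a b c; decide +kernel
  zero_add a := by revert a; decide +kernel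
  add_zero a := by revert a; decide +kernel
  add_comm a b := by revert a b; decide +kernel
  nsmul := nsmulRec
  zsmul := zsmulRec
  neg_add_cancel a := by revert a; decide +kernel
  mul_assoc a b c := by revert a b c; decide +kernel
  mul_comm a b := by revert a b; decide +kernel
  one_mul a := by revert a; decide +kernel
  mul_one a := by revert a; decide +kernel
  left_distrib a b c := by revert a b c; decide +kernel
  right_distrib a b c := by revert a b c; decide +kernel
  zero_mul a := by revert a; decide +kernel
  mul_zero a := by revert a; decide +kernel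
  mul_inv_cancel a := by revert a; decide +kernel
  inv_zero := by decide +kernel
  exists_pair_ne := ⟨0, 1, by decide +kernel⟩
  nnqsmul := _
  qsmul := _

theorem card_eq : Fintype.card K8 = 2 ^ (2 * 1 + 1) := by
  rw [← Fintype.card_congr k8Equiv]; rfl

instance : CharP K8 2 := CharTwo.of_one_ne_zero_of_two_eq_zero (by decide +kernel) (by decide +kernel)

end K8

end Cfsg.Agent.Lib.SzEightMult
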