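import Cfsg.Agent.Lib.SzEightMult.Cover
import Cfsg.Agent.Lib.KnownA.SuzukiOut

/-!
The Schur multiplier of `Sz(8)`.
-/

set_option autoImplicit false

namespace Cfsg.Agent.Lib.SzEightMult

open Cfsg Cfsg.Lie Cfsg.Agent.Lib.KnownA Cfsg.Agent.Lib.Compute

universe u

theorem exists_iso {F : Type u} [Field F] [Fintype F] [CharP F 2] (hθ : ∀ x : F, szTh 1 (szTh 1 x) = x * x)
    (hF : Fintype.card F = 2 ^ (2 * 1 + 1)) : Nonempty (GK ≃* ↥(Suz.G F 1)) := by
  have hcard : Fintype.card K8 = Fintype.card F := by rw [K8.card_eq, hF]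
  let ι : K8 →+* F := (FiniteField.ringEquivOfCardEq (K := K8) (K' := F) hcard).toRingHom
  have hcomp : ∀ x, ι (szTh 1 x) = szTh 1 (ι x) := fun x => by rw [szTh_apply, szTh_apply, map_pow]
  refine ⟨MulEquiv.ofBijective (Suz.mapSz hθ k8_th ι hcomp) ?_⟩
  refine (Nat.bijective_iff_injective_and_card _).2 ⟨Suz.mapSz_injective hθ k8_th ι hcomp, ?_⟩
  rw [Suz.card_G k8_th, Suz.card_G hθ, hcard]

theorem ker_image {F : Type u} [Field F] [Fintype F] [CharP F 2] (hθ : ∀ x : F, szTh 1 (szTh 1 x) = x * x)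
    (hF : Fintype.card F = 2 ^ (2 * 1 + 1)) {Γ : Type u} [Group Γ] [Finite Γ] (σ : Γ →* ↥(Suz.G F 1))
    (hσ : Cfsg.IsStemExtension σ) :
    ∃ π : Multiplicative (ZMod 2 × ZMod 2) →* σ.ker, Function.Surjective π := by
  classical
  obtain ⟨hs, hc, hcm⟩ := hσ
  have hodd : ∀ p : ℕ, p.Prime → p ≠ 2 → ∀ z ∈ σ.ker, z ^ p = 1 → z = 1 := by
    intro p hp hp2 z hz hzp
    haveI : Fact p.Prime := ⟨hp⟩
    obtain ⟨P⟩ : Nonempty (Sylow p ↥(Suz.G F 1)) := inferInstance
    haveI := Suz.sylow_odd_cyclic hθ hF hp2 P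
    obtain ⟨g, hg⟩ := IsCyclic.exists_generator (α := ↥P)
    refine eq_one_of_cyclic σ hs hc hz (hcm hz) hzp (x := (g : ↥(Suz.G F 1))) ?_
    have : Subgroup.zpowers (g : ↥(Suz.G F 1)) = (P : Subgroup ↥(Suz.G F 1)) := by
      refine le_antisymm (Subgroup.zpowers_le.2 g.2) fun x hx => ?_
      obtain ⟨k, hk⟩ := Subgroup.mem_zpowers_iff.1 (hg ⟨x, hx⟩)
      exact Subgroup.mem_zpowers_iff.2 ⟨k, congrArg Subtype.val hk⟩
    rw [this]
    exact hp.coprime_iff_not_dvd.2 P.not_dvd_index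
  have htwo : ∀ z ∈ σ.ker, ∃ k : ℕ, z ^ (2 ^ k) = 1 := by
    intro z hz
    refine ⟨(orderOf z).primeFactorsList.length, ?_⟩
    rw [← Nat.eq_prime_pow_of_unique_prime_dvd (orderOf_pos z).ne' (p := 2) ?_, pow_orderOf_eq_one]
    intro p hp hd
    by_contra hp2
    have h2 := hodd p hp hp2 (z ^ (orderOf z / p)) (pow_mem hz _)
      (by rw [← pow_mul, Nat.div_mul_cancel hd, pow_orderOf_eq_one])
    exact absurd (orderOf_dvd_of_pow_eq_one h2) (Nat.not_dvd_of_pos_of_lt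
      (Nat.div_pos (Nat.le_of_dvd (orderOf_pos z) hd) hp.pos) (Nat.div_lt_self (orderOf_pos z) hp.one_lt))
  obtain ⟨L, hLk, hLadd, hL1, hLz⟩ := exists_hom hθ hF σ hs hc
  have hL0 : L 0 = 1 := by
    have h := hLadd 0 0
    rw [add_zero] at h
    exact left_eq_mul.1 h
  have hcov : ∀ z ∈ σ.ker, ∃ y, z = L y := by
    intro z hz
    obtain ⟨k, hk⟩ := htwo z hz
    refine hLz z hz (mem_commutator_comap σ hs hc hz (hcm hz) hk ?_)
    rw [← Suz.sylow_coe hθ hF]
    exact (Nat.prime_two.coprime_iff_not_dvd.2 (Suz.sylow hθ hF).not_dvd_index).pow_left k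
  haveI : Fact (Nat.Prime 2) := ⟨Nat.prime_two⟩
  -- pick two elements spanning the field over `1`
  let eK : K8 ≃+* F := FiniteField.ringEquivOfCardEq (by rw [K8.card_eq, hF])
  let ι : K8 →+* F := eK.toRingHom
  let B : Fin 2 → F := ![ι (K8.el 2), ι (K8.el 4)]
  have hspan : ∀ y : F, ∃ a b c : Bool,
      y = (if a then 1 else 0) + (if b then B 0 else 0) + (if c then B 1 else 0) := by
    intro y
    obtain ⟨x, rfl⟩ : ∃ x, ι x = y := eK.surjective y
    have key : ∀ x : K8, ∃ a b c : Bool,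
        x = (if a then (1 : K8) else 0) + (if b then K8.el 2 else 0) + (if c then K8.el 4 else 0) := by
      decide +kernel
    obtain ⟨a, b, c, rfl⟩ := key x
    refine ⟨a, b, c, ?_⟩
    simp only [map_add, B, Matrix.cons_val_zero, Matrix.cons_val_one]
    cases a <;> cases b <;> cases c <;> simp
  let v : Fin 2 → σ.ker := fun i => ⟨L (B i), hLk _⟩
  have hsq : ∀ y, L y * L y = 1 := fun y => by rw [← hLadd, CharTwo.add_self_eq_zero, hL0]
  have hcomm : ∀ a b : σ.ker, a * b = b * a := fun a b =>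
    Subtype.ext (Subgroup.mem_center_iff.1 (hc b.2) a.1)
  have v2 : ∀ i, v i * v i = 1 := fun i => Subtype.ext (hsq _)
  let e : ZMod 2 → σ.ker → σ.ker := fun t g => g ^ t.val
  have eadd : ∀ i, ∀ s t : ZMod 2, e (s + t) (v i) = e s (v i) * e t (v i) := by
    intro i s t
    show v i ^ (s + t).val = v i ^ s.val * v i ^ t.val
    rw [← pow_add, ZMod.val_add, ← pow_eq_pow_mod _ (by rw [pow_two]; exact v2 i)]
  let π : Multiplicative (ZMod 2 × ZMod 2) →* σ.ker :=
    { toFun := fun x => e (Multiplicative.toAdd x).1 (v 0) * e (Multiplicative.toAdd x).2 (v 1)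
      map_one' := by simp [e]
      map_mul' := fun x y => by
        show e (_ + _) (v 0) * e (_ + _) (v 1) = _
        rw [eadd, eadd]
        exact Commute.mul_mul_mul_comm (hcomm _ _) _ _ }
  refine ⟨π, ?_⟩
  rintro ⟨z, hz⟩
  obtain ⟨y, rfl⟩ := hcov z hz
  obtain ⟨a, b, c, rfl⟩ := hspan y
  refine ⟨Multiplicative.ofAdd (if b then 1 else 0, if c then 1 else 0), Subtype.ext ?_⟩
  show ((e _ (v 0) * e _ (v 1) : σ.ker) : Γ) = _
  simp only [toAdd_ofAdd, hLadd]
  cases a <;> cases b <;> cases c <;> simp [e, v, hL0, hL1, ZMod.val_one]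

/-- The Schur multiplier of `Sz(8)` is a four group. -/
theorem multiplier_suzuki_eight {F : Type u} [Field F] [Fintype F] (hF : Fintype.card F = 8) :
    Cfsg.HasSchurMultiplier ↥(Suz.G F 1) (Multiplicative (ZMod 2 × ZMod 2)) := by
  have hF' : Fintype.card F = 2 ^ (2 * 1 + 1) := by rw [hF]; rfl
  haveI := Suz.charP_two hF'
  have hθ := Suz.th_sq hF'
  refine ⟨?_, fun Γ _ _ σ hσ => ker_image hθ hF' σ hσ⟩
  obtain ⟨Γ, _, _, σ, ⟨hs, hc, hcm⟩, ⟨eA⟩⟩ := exists_stem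
  obtain ⟨eG⟩ := exists_iso hθ hF'
  let eU : ULift.{u} Γ ≃* Γ := MulEquiv.ulift
  let σ' : ULift.{u} Γ →* ↥(Suz.G F 1) := (eG.toMonoidHom.comp σ).comp eU.toMonoidHom
  have hmem : ∀ x, x ∈ σ'.ker ↔ eU x ∈ σ.ker := fun x => by
    show eG (σ (eU x)) = 1 ↔ σ (eU x) = 1
    exact map_eq_one_iff eG eG.injective
  refine ⟨ULift.{u} Γ, inferInstance, inferInstance, σ', ⟨?_, ?_, ?_⟩, ⟨?_⟩⟩
  · exact (eG.surjective.comp hs).comp eU.surjective
  · intro x hx
    refine Subgroup.mem_center_iff.2 fun g => eU.injective ?_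
    rw [map_mul, map_mul]
    exact Subgroup.mem_center_iff.1 (hc ((hmem x).1 hx)) (eU g)
  · intro x hx
    have h : eU x ∈ commutator Γ := hcm ((hmem x).1 hx)
    have h' : eU.symm (eU x) ∈ (commutator Γ).map eU.symm.toMonoidHom := Subgroup.mem_map_of_mem _ h
    rw [MulEquiv.symm_apply_apply, commutator_def, Subgroup.map_commutator,
      Subgroup.map_top_of_surjective _ eU.symm.surjective] at h'
    exact h'
  · refine MulEquiv.trans ?_ eA
    refine MulEquiv.trans (eU.subgroupMap σ'.ker) (MulEquiv.subgroupCongr ?_)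
    ext y
    constructor
    · rintro ⟨x, hx, rfl⟩; exact (hmem x).1 hx
    · intro hy; exact ⟨eU.symm y, (hmem _).2 (by simpa using hy), eU.apply_symm_apply y⟩

end Cfsg.Agent.Lib.SzEightMult
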