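import Cfsg.Agent.Lib.SzEightMult.Data

/-!
Signed permutation matrices of degree eight.
-/

set_option autoImplicit false

namespace Cfsg.Agent.Lib.SzEightMult

open Matrix

/-- Image of a basis index. -/
def pImg (p : ℕ) (x : Fin 8) : Fin 8 := ⟨(p >>> (4 * x.val)) % 8, Nat.mod_lt _ (by omega)⟩

/-- Sign at a basis index. -/
def pSgn (p : ℕ) (x : Fin 8) : Bool := Nat.testBit p (4 * x.val + 3)

/-- The matrix of a signed permutation. -/
def pMat (p : ℕ) : Matrix (Fin 8) (Fin 8) (ZMod 5) :=
  fun y x => if y = pImg p x then (if pSgn p x then -1 else 1) else 0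

/-- The lifts of the Sylow subgroup. -/
def permOf (r : Fin 2) (i : Fin 64) : ℕ := ((![perms0, perms1] r).getD i 0)

/-- The lifts of the involution. -/
def welMat (r : Fin 2) : Matrix (Fin 8) (Fin 8) (ZMod 5) := ![welMat0, welMat1] r

/-- The pair of codes. -/
def uA (i : Fin 64) : K8 := K8.el (i.val / 8)

/-- The second coordinate. -/
def uB (i : Fin 64) : K8 := K8.el (i.val % 8)

/-- The index of a pair. -/
def uIdx (a b : K8) : Fin 64 := ⟨a.v.val * 8 + b.v.val, by omega⟩

/-- Multiplication of the Sylow subgroup. -/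
def uMul (i j : Fin 64) : Fin 64 :=
  uIdx (uA i + uA j) (uB i + uB j + (uA i * uA i) * (uA i * uA i) * uA j)

/-- The torus generator on the Sylow subgroup. -/
def uTor (i : Fin 64) : Fin 64 :=
  uIdx (uA i * (K8.el 2 * K8.el 2)) (uB i * (K8.el 2 * K8.el 2 * K8.el 2))

/-- Composition of signed permutations. -/
def pCompEq (p q s : ℕ) (neg : Bool) : Bool :=
  (List.finRange 8).all fun x => (pImg p (pImg q x) == pImg s x) &&
    ((pSgn p (pImg q x) ^^ pSgn q x) == (neg ^^ pSgn s x))

theorem pMat_mul {p q s : ℕ} {neg : Bool} (h : pCompEq p q s neg = true) :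
    pMat p * pMat q = (if neg then (-1 : ZMod 5) else 1) • pMat s := by
  ext y x
  have hx := List.all_eq_true.1 h x (List.mem_finRange x)
  simp only [Bool.and_eq_true, beq_iff_eq] at hx
  rw [Matrix.mul_apply, Finset.sum_eq_single (pImg q x) (fun b _ hb => by
    rw [show pMat q b x = 0 from if_neg hb, mul_zero]) (fun hh => absurd (Finset.mem_univ _) hh)]
  simp only [Matrix.smul_apply, pMat, hx.1, if_true, smul_eq_mul]
  have h2 := hx.2
  generalize pSgn p (pImg q x) = a at h2
  generalize pSgn q x = b at h2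
  generalize pSgn s x = c at h2
  by_cases hy : y = pImg s x
  · cases a <;> cases b <;> cases c <;> cases neg <;> simp_all
  · simp [hy]

theorem perm_mul_check : ∀ r : Fin 2, ∀ i j : Fin 64,
    (pCompEq (permOf r i) (permOf r j) (permOf r (uMul i j)) false ||
      pCompEq (permOf r i) (permOf r j) (permOf r (uMul i j)) true) = true := by
  decide +kernel

theorem perm_mul (r : Fin 2) (i j : Fin 64) :
    pMat (permOf r i) * pMat (permOf r j) = pMat (permOf r (uMul i j)) ∨
    pMat (permOf r i) * pMat (permOf r j) = -pMat (permOf r (uMul i j)) := by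
  rcases Bool.or_eq_true _ _ ▸ perm_mul_check r i j with h | h
  · left; simpa using pMat_mul h
  · right; simpa using pMat_mul h

/-- The matrix of the torus generator. -/
def torMat : Matrix (Fin 8) (Fin 8) (ZMod 5) := pMat torPerm

theorem torMat_pow : torMat ^ 7 = 1 := by decide +kernel

theorem torMat_perm : ∀ r : Fin 2, ∀ i : Fin 64,
    torMat * pMat (permOf r i) = pMat (permOf r (uTor i)) * torMat ∨
    torMat * pMat (permOf r i) = -(pMat (permOf r (uTor i)) * torMat) := by
  decide +kernel

theorem perm_zero : ∀ r : Fin 2, pMat (permOf r 0) = 1 := by decide +kernel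

theorem welMat_tor : ∀ r : Fin 2, welMat r * torMat = torMat ^ 6 * welMat r := by decide +kernel

theorem welMat_sq : ∀ r : Fin 2, welMat r * welMat r = 1 := by decide +kernel

/-- The data of `w u w`. -/
def relOf (i : Fin 64) : Fin 64 × Fin 7 × Fin 64 :=
  let d := relData.getD i (0, 0, 0)
  (⟨d.1 % 64, Nat.mod_lt _ (by omega)⟩, ⟨d.2.1 % 7, Nat.mod_lt _ (by omega)⟩,
    ⟨d.2.2 % 64, Nat.mod_lt _ (by omega)⟩)

end Cfsg.Agent.Lib.SzEightMult
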